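import Mathlib
import Groth.Prelude.Def_MeroDiv
import Groth.Agent.H29Blow.WeakAss
import Groth.Agent.H29Blow.AssPoints
import Groth.Agent.H29Blow.PointsOfAffine

/-!
# Meromorphic functions over an affine open with finitely many weakly associated points
-/

set_option autoImplicit false

universe u

open CategoryTheory AlgebraicGeometry TopologicalSpace Opposite

namespace Groth.Agent.H29Mero

variable {X : Scheme.{u}}

lemma isUnit_of_weakAss {x : X} (hx : Curv2.IsWeakAssPoint (Coh.structureModule X) x)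
    {r : X.presheaf.stalk x} (hr : r ∈ nonZeroDivisors (X.presheaf.stalk x)) : IsUnit r := by
  by_contra hu
  obtain ⟨hp, m, hm⟩ := (H29Blow.isWeakAssPoint_structureModule_iff x).mp hx
  have hrm : r ∈ IsLocalRing.maximalIdeal (X.presheaf.stalk x) :=
    (IsLocalRing.mem_maximalIdeal _).mpr hu
  have hne : m ≠ 0 := by
    rintro rfl
    refine hp.ne_top (hm.trans ?_)
    rw [Ideal.radical_eq_top, Ideal.eq_top_iff_one, Submodule.mem_colon_singleton, smul_zero]
    exact Submodule.zero_mem _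
  rw [hm] at hrm
  obtain ⟨n, hn⟩ := hrm
  rw [Submodule.mem_colon_singleton, Submodule.mem_bot, smul_eq_mul] at hn
  exact hne ((mem_nonZeroDivisors_iff.mp (pow_mem hr n)).1 m hn)

variable {U : X.Opens} (hU : IsAffineOpen U)

include hU

lemma germ_mem_nzd {a : Γ(X, U)} (ha : a ∈ nonZeroDivisors Γ(X, U)) {y : X} (hy : y ∈ U) :
    X.presheaf.germ U y hy a ∈ nonZeroDivisors (X.presheaf.stalk y) := by
  letI := TopCat.Presheaf.algebra_section_stalk X.presheaf (⟨y, hy⟩ : U)
  haveI := hU.isLocalization_stalk ⟨y, hy⟩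
  exact IsLocalization.map_nonZeroDivisors_le (hU.primeIdealOf ⟨y, hy⟩).asIdeal.primeCompl _ ⟨a, ha, rfl⟩

/-- Regular elements are detected at the weakly associated points. -/
lemma mem_nzd_of_forall {a : Γ(X, U)}
    (h : ∀ (y : X) (hy : y ∈ U), Curv2.IsWeakAssPoint (Coh.structureModule X) y →
      IsUnit (X.presheaf.germ U y hy a)) : a ∈ nonZeroDivisors Γ(X, U) := by
  refine mem_nonZeroDivisors_iff_right.mpr fun s hs => ?_
  by_contra hne
  obtain ⟨y, hy, hw, hg⟩ := H29Blow.exists_isWeakAssPoint_germ_ne_zero ⟨U, hU⟩ hne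
  refine hg ((IsUnit.mul_left_eq_zero (h y hy hw)).mp ?_)
  rw [← map_mul, hs, map_zero]

/-- A germ regular at `x` stays regular at the weakly associated points generizing `x`. -/
lemma isUnit_germ_of_specializes {a : Γ(X, U)} {x y : X} (hx : x ∈ U) (hy : y ∈ U) (hyx : y ⤳ x)
    (ha : X.presheaf.germ U x hx a ∈ nonZeroDivisors (X.presheaf.stalk x))
    (hw : Curv2.IsWeakAssPoint (Coh.structureModule X) y) :
    IsUnit (X.presheaf.germ U y hy a) := by
  letI := TopCat.Presheaf.algebra_section_stalk X.presheaf (⟨y, hy⟩ : U)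
  haveI := hU.isLocalization_stalk ⟨y, hy⟩
  letI := TopCat.Presheaf.algebra_section_stalk X.presheaf (⟨x, hx⟩ : U)
  haveI := hU.isLocalization_stalk ⟨x, hx⟩
  refine isUnit_of_weakAss hw (mem_nonZeroDivisors_iff_right.mpr fun m hm => ?_)
  obtain ⟨⟨s, c⟩, rfl⟩ :=
    IsLocalization.mk'_surjective (hU.primeIdealOf ⟨y, hy⟩).asIdeal.primeCompl m
      |>.imp' (fun q => q) (fun q hq => hq)
  rw [IsLocalization.mk'_eq_zero_iff]
  have h1 : algebraMap Γ(X, U) (X.presheaf.stalk y) (s * a) = 0 := by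
    have := congrArg (algebraMap Γ(X, U) (X.presheaf.stalk y) (c : Γ(X, U)) * ·) hm
    simp only [mul_zero] at this
    rw [← mul_assoc, IsLocalization.mk'_spec'] at this
    rw [map_mul]; exact this
  obtain ⟨⟨c', hc'⟩, hcc⟩ := (IsLocalization.map_eq_zero_iff
    (hU.primeIdealOf ⟨y, hy⟩).asIdeal.primeCompl _ _).mp h1
  have h2 : X.presheaf.germ U x hx (c' * s) = 0 := by
    refine (mem_nonZeroDivisors_iff_right.mp ha) _ ?_
    rw [← map_mul, mul_assoc]
    exact (congrArg _ hcc).trans (map_zero _)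
  obtain ⟨⟨c'', hc''⟩, hcc'⟩ := (IsLocalization.map_eq_zero_iff
    (hU.primeIdealOf ⟨x, hx⟩).asIdeal.primeCompl (X.presheaf.stalk x) _).mp h2
  have hc''y : c'' ∉ (hU.primeIdealOf ⟨y, hy⟩).asIdeal := fun h =>
    hc'' ((H29Blow.primeIdealOf_le_iff hU ⟨y, hy⟩ ⟨x, hx⟩).mpr hyx h)
  exact ⟨⟨c'', hc''y⟩ * ⟨c', hc'⟩, by
    change c'' * c' * s = 0
    rw [mul_assoc]; exact hcc'⟩

variable (hT : {y : X | y ∈ U ∧ Curv2.IsWeakAssPoint (Coh.structureModule X) y}.Finite)

include hT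

lemma nzd_stalk_le_regStalk {x : X} (hx : x ∈ U) :
    nonZeroDivisors (X.presheaf.stalk x) ≤ Mero.regStalk X x := by
  classical
  intro r hr
  letI := TopCat.Presheaf.algebra_section_stalk X.presheaf (⟨x, hx⟩ : U)
  haveI := hU.isLocalization_stalk ⟨x, hx⟩
  obtain ⟨⟨a, c⟩, hac⟩ := IsLocalization.surj (hU.primeIdealOf ⟨x, hx⟩).asIdeal.primeCompl r
  have hex : ∀ y : {y : X | y ∈ U ∧ Curv2.IsWeakAssPoint (Coh.structureModule X) y},
      ∃ g : Γ(X, U), g ∉ (hU.primeIdealOf ⟨x, hx⟩).asIdeal ∧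
        (¬ y.1 ⤳ x → g ∈ (hU.primeIdealOf ⟨y.1, y.2.1⟩).asIdeal) := by
    intro y
    by_cases h : y.1 ⤳ x
    · exact ⟨1, fun h1 => (hU.primeIdealOf _).isPrime.ne_top ((Ideal.eq_top_iff_one _).mpr h1),
        fun h' => absurd h h'⟩
    · have : ¬ (hU.primeIdealOf ⟨y.1, y.2.1⟩).asIdeal ≤ (hU.primeIdealOf ⟨x, hx⟩).asIdeal :=
        fun hle => h ((H29Blow.primeIdealOf_le_iff hU ⟨y.1, y.2.1⟩ ⟨x, hx⟩).mp hle)
      obtain ⟨g, hg1, hg2⟩ := Set.not_subset.mp this
      exact ⟨g, hg2, fun _ => hg1⟩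
  choose g hgx hgy using hex
  haveI := hT.fintype
  let G := (c : Γ(X, U)) * ∏ y, g y
  have hG : G ∉ (hU.primeIdealOf ⟨x, hx⟩).asIdeal := fun h => by
    rcases (hU.primeIdealOf ⟨x, hx⟩).isPrime.mem_or_mem h with h | h
    · exact c.2 h
    · obtain ⟨y, -, hy⟩ := (hU.primeIdealOf ⟨x, hx⟩).isPrime.prod_mem_iff.mp h
      exact hgx y hy
  have hxG : x ∈ X.basicOpen G := (X.mem_basicOpen G x hx).mpr (by
    by_contra hu; exact hG ((H29Blow.mem_primeIdealOf_iff hU ⟨x, hx⟩ G).mpr hu))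
  let ρ := (X.presheaf.map (homOfLE (X.basicOpen_le G)).op).hom
  have hcu : IsUnit (ρ c) :=
    isUnit_of_dvd_unit (map_dvd ρ (Dvd.intro _ rfl)) (RingedSpace.isUnit_res_basicOpen _ G)
  have hax : X.presheaf.germ U x hx a ∈ nonZeroDivisors (X.presheaf.stalk x) := by
    change algebraMap Γ(X, U) (X.presheaf.stalk x) a ∈ _
    rw [← hac]
    exact mul_mem hr (IsUnit.mem_nonZeroDivisors (IsLocalization.map_units _ c))
  let a' := ρ a * ↑hcu.unit⁻¹
  refine ⟨X.basicOpen G, hxG, a', fun z => germ_mem_nzd (hU.basicOpen G)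
    (mem_nzd_of_forall (hU.basicOpen G) fun y hy hw => ?_) z.2, ?_⟩
  · have hyU : y ∈ U := X.basicOpen_le G hy
    rw [map_mul]
    refine IsUnit.mul ?_ (Units.isUnit _ |>.map _)
    rw [X.presheaf.germ_res_apply]
    refine isUnit_germ_of_specializes hU hx hyU ?_ hax hw
    by_contra hyx
    have h1 := hgy ⟨y, hyU, hw⟩ hyx
    exact (H29Blow.mem_primeIdealOf_iff hU ⟨y, hyU⟩ G).mp
      (Ideal.mul_mem_left _ _ (Ideal.prod_mem (s := Finset.univ) _ (Finset.mem_univ _) h1))
      ((X.mem_basicOpen G y hyU).mp hy)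
  · refine (IsLocalization.map_units (X.presheaf.stalk x) c).mul_right_cancel ?_
    rw [hac]
    have e : X.presheaf.germ U x hx (c : Γ(X, U)) = X.presheaf.germ (X.basicOpen G) x hxG (ρ c) :=
      (X.presheaf.germ_res_apply _ _ _ _).symm
    change X.presheaf.germ (X.basicOpen G) x hxG a' * X.presheaf.germ U x hx (c : Γ(X, U)) =
      X.presheaf.germ U x hx a
    rw [e, ← map_mul]
    simp only [a', mul_assoc, IsUnit.val_inv_mul, mul_one]
    exact X.presheaf.germ_res_apply _ _ _ _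

theorem regStalk_eq {x : X} (hx : x ∈ U) :
    Mero.regStalk X x = nonZeroDivisors (X.presheaf.stalk x) :=
  le_antisymm (Mero.regStalk_le_nonZeroDivisors x) (nzd_stalk_le_regStalk hU hT hx)

omit hT in
/-- A meromorphic function vanishing on `D(h)` is killed by a power of `h`. -/
lemma exists_pow_mul_eq_zero (h : Γ(X, U)) (f : Γ(Mero.kmod X, U))
    (hf : ∀ y : U, y.1 ∈ X.basicOpen h → f.1 y = 0) : ∃ n : ℕ, Mero.toK X U h ^ n * f = 0 := by
  classical
  have hloc : ∀ x : U, ∃ (V : X.Opens) (n : ℕ), x.1 ∈ V ∧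
      ∀ y : U, y.1 ∈ V → (Mero.toK X U h ^ n * f).1 y = 0 := by
    intro x
    obtain ⟨V₀, hx, i, a, b, w⟩ := f.2 x
    obtain ⟨V, hV, hxV, hVsub⟩ := exists_isAffineOpen_mem_and_subset (U := V₀) (x := x.1) hx
    have hle : V ≤ V₀ := hVsub
    have hleU : V ≤ U := hle.trans (leOfHom i)
    let a' : Γ(X, V) := X.presheaf.map (homOfLE hle).op a
    let h' : Γ(X, V) := X.presheaf.map (homOfLE hleU).op h
    have hres : X.presheaf.map (homOfLE (X.basicOpen_le h')).op a' = 0 := by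
      refine TopCat.Presheaf.section_ext X.sheaf _ _ _ fun y hy ↦ ?_
      have hy' : y ∈ X.basicOpen h := ((X.basicOpen_res h (homOfLE hleU).op).le hy).2
      have hyV₀ : y ∈ V₀ := hle (X.basicOpen_le h' hy)
      have w' := w ⟨y, hyV₀⟩
      dsimp only at w'
      have h1 : (LocalizedModule.mk (X.presheaf.germ V₀ y hyV₀ a) (Mero.regGerm ⟨y, hyV₀⟩ b) :
          Mero.KStalk X y) = 0 := w'.symm.trans (hf (i ⟨y, hyV₀⟩) hy')
      change X.presheaf.germ _ y hy (X.presheaf.map (homOfLE (X.basicOpen_le h')).op a') =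
        X.presheaf.germ _ y hy 0
      rw [map_zero, X.presheaf.germ_res_apply]
      change X.presheaf.germ V y _ (X.presheaf.map (homOfLE hle).op a) = 0
      rw [X.presheaf.germ_res_apply]
      obtain ⟨c, hc⟩ := LocalizedModule.mk_eq.mp
        (h1.trans (LocalizedModule.zero_mk (1 : Mero.regStalk X y)).symm)
      simp only [Submonoid.smul_def, smul_eq_mul, mul_zero, OneMemClass.coe_one, one_mul] at hc
      exact (mul_right_mem_nonZeroDivisors_eq_zero_iff (Mero.regStalk_le_nonZeroDivisors y c.2)).mp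
        (by rw [mul_comm]; exact hc)
    obtain ⟨n, hn⟩ := exists_pow_mul_eq_zero_of_res_basicOpen_eq_zero_of_isCompact X (U := V)
      hV.isCompact a' h' hres
    refine ⟨V, n, hxV, fun y hy ↦ ?_⟩
    have w' := w ⟨y.1, hle hy⟩
    dsimp only at w'
    have hpow : (Mero.toK X U h ^ n).1 y =
        LocalizedModule.mk (X.presheaf.germ U y.1 y.2 (h ^ n)) 1 := by
      rw [← map_pow]; rfl
    rw [Mero.kmod_mul_apply, hpow]
    change _ * f.1 (i ⟨y.1, hle hy⟩) = (0 : Mero.KStalk X y.1)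
    have hz : X.presheaf.germ U y.1 y.2 (h ^ n) * X.presheaf.germ V₀ y.1 (hle hy) a = 0 := by
      have e := congrArg (X.presheaf.germ V y.1 hy) hn
      rw [map_mul, map_zero, map_pow, X.presheaf.germ_res_apply, X.presheaf.germ_res_apply] at e
      rw [map_pow]; exact e
    refine (congrArg (_ * ·) w').trans (LocalizedModule.mk_mul_mk.trans ?_)
    rw [hz, LocalizedModule.zero_mk]
  choose V n hxV hV using hloc
  obtain ⟨s, hs⟩ := hU.isCompact.elim_finite_subcover (fun x : U ↦ (V x : Set X))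
    (fun x ↦ (V x).2) (fun x hx ↦ Set.mem_iUnion.mpr ⟨⟨x, hx⟩, hxV _⟩)
  refine ⟨s.sup n, Subtype.ext (funext fun y ↦ ?_)⟩
  obtain ⟨x, hx, hyx⟩ := Set.mem_iUnion₂.mp (hs y.2)
  obtain ⟨d, hd⟩ := Nat.exists_eq_add_of_le (Finset.le_sup hx : n x ≤ s.sup n)
  rw [hd, add_comm, pow_add, mul_assoc, Mero.kmod_mul_apply]
  exact (congrArg (_ * ·) (hV x y hyx)).trans (mul_zero _)

lemma exists_denominator (f : Γ(Mero.kmod X, U)) :
    ∃ b a : Γ(X, U), b ∈ nonZeroDivisors Γ(X, U) ∧ f * Mero.toK X U b = Mero.toK X U a := by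
  classical
  let D : Ideal Γ(X, U) :=
    { carrier := {b | ∃ a, f * Mero.toK X U b = Mero.toK X U a}
      zero_mem' := ⟨0, by rw [map_zero, mul_zero]⟩
      add_mem' := by
        rintro b b' ⟨a, ha⟩ ⟨a', ha'⟩
        exact ⟨a + a', by rw [map_add, map_add, mul_add, ha, ha']⟩
      smul_mem' := by
        rintro r b ⟨a, ha⟩
        exact ⟨r * a, by rw [smul_eq_mul, map_mul, map_mul, ← ha]; ring⟩ }
  have hkey : ∀ y : X, ∀ hy : y ∈ U, Curv2.IsWeakAssPoint (Coh.structureModule X) y →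
      ¬ D ≤ (hU.primeIdealOf ⟨y, hy⟩).asIdeal := by
    intro y hy hw hle
    obtain ⟨V₀, hyV₀, i, a, b, w⟩ := f.2 ⟨y, hy⟩
    obtain ⟨g, hgV, hyg⟩ := hU.exists_basicOpen_le (V := V₀) ⟨y, hyV₀⟩ hy
    haveI := hU.isLocalization_basicOpen g
    obtain ⟨⟨b₁, ⟨_, m, rfl⟩⟩, hb₁⟩ :=
      IsLocalization.surj (Submonoid.powers g) (X.presheaf.map (homOfLE hgV).op b.1)
    obtain ⟨⟨a₁, ⟨_, k, rfl⟩⟩, ha₁⟩ :=
      IsLocalization.surj (Submonoid.powers g) (X.presheaf.map (homOfLE hgV).op a)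
    dsimp only at hb₁ ha₁
    let δ := f * Mero.toK X U (g ^ k * b₁) - Mero.toK X U (g ^ m * a₁)
    obtain ⟨N, hN⟩ := exists_pow_mul_eq_zero hU g δ (by
      rintro ⟨z, hzU⟩ (hz : z ∈ X.basicOpen g)
      have hb := congrArg (X.presheaf.germ (X.basicOpen g) z hz) hb₁
      have ha := congrArg (X.presheaf.germ (X.basicOpen g) z hz) ha₁
      simp only [RingHom.algebraMap_toAlgebra, map_mul, map_pow, X.presheaf.germ_res_apply] at hb ha
      change Mero.evalK X U ⟨z, hzU⟩ δ = 0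
      simp only [δ, map_sub, map_mul, map_pow, sub_eq_zero]
      have wz := w ⟨z, hgV hz⟩
      dsimp only at wz
      change f.1 ⟨z, hzU⟩ * (_ * _) = _
      rw [show f.1 ⟨z, hzU⟩ = Localization.mk (X.presheaf.germ V₀ z (hgV hz) a)
        (Mero.regGerm ⟨z, hgV hz⟩ b) from wz, Localization.mk_eq_mk']
      change _ * (algebraMap _ (Mero.KStalk X z) (X.presheaf.germ U z hzU g) ^ k *
        algebraMap _ (Mero.KStalk X z) (X.presheaf.germ U z hzU b₁)) =
        algebraMap _ (Mero.KStalk X z) (X.presheaf.germ U z hzU g) ^ m *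
          algebraMap _ (Mero.KStalk X z) (X.presheaf.germ U z hzU a₁)
      rw [← hb, ← ha, map_mul, map_mul, map_pow, map_pow]
      linear_combination (algebraMap _ (Mero.KStalk X z) (X.presheaf.germ U z hzU g) ^ (k + m)) *
        IsLocalization.mk'_spec (Mero.KStalk X z) (X.presheaf.germ V₀ z (hgV hz) a)
        (Mero.regGerm ⟨z, hgV hz⟩ b))
    have hmem : g ^ N * (g ^ k * b₁) ∈ D := by
      refine ⟨g ^ N * (g ^ m * a₁), sub_eq_zero.mp ?_⟩
      rw [← hN, map_mul _ (g ^ N), map_mul _ (g ^ N), map_pow _ g N]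
      simp only [δ]
      ring
    refine (H29Blow.mem_primeIdealOf_iff hU ⟨y, hy⟩ _).mp (hle hmem) ?_
    have hgu := (X.mem_basicOpen g y hy).mp hyg
    rw [map_mul, map_mul, map_pow, map_pow]
    refine (hgu.pow N).mul ((hgu.pow k).mul ?_)
    have hb := congrArg (X.presheaf.germ (X.basicOpen g) y hyg) hb₁
    simp only [RingHom.algebraMap_toAlgebra, map_mul, map_pow, X.presheaf.germ_res_apply] at hb
    rw [← hb]
    exact (isUnit_of_weakAss hw (b.2 ⟨y, hyV₀⟩)).mul (hgu.pow m)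
  obtain ⟨b, hbD, hb⟩ : ∃ b ∈ D, ∀ (y : X) (hy : y ∈ U),
      Curv2.IsWeakAssPoint (Coh.structureModule X) y → IsUnit (X.presheaf.germ U y hy b) := by
    haveI := hT.fintype
    by_contra! hc
    have hsub : (D : Set Γ(X, U)) ⊆ ⋃ y ∈ (Set.univ : Set {y : X | y ∈ U ∧
        Curv2.IsWeakAssPoint (Coh.structureModule X) y}),
        ((hU.primeIdealOf ⟨y.1, y.2.1⟩).asIdeal : Set Γ(X, U)) := by
      intro b hb
      obtain ⟨y, hy, hw, hu⟩ := hc b hb
      refine Set.mem_iUnion₂.mpr ⟨⟨y, hy, hw⟩, Set.mem_univ _, ?_⟩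
      exact SetLike.mem_coe.mpr ((H29Blow.mem_primeIdealOf_iff hU ⟨y, hy⟩ b).mpr hu)
    rcases Set.eq_empty_or_nonempty {y : X | y ∈ U ∧ Curv2.IsWeakAssPoint (Coh.structureModule X) y} with h0 | ⟨y₀, hy₀⟩
    · obtain ⟨y, hy, hw, -⟩ := hc 0 D.zero_mem
      exact Set.eq_empty_iff_forall_notMem.mp h0 y ⟨hy, hw⟩
    · obtain ⟨y, -, hle⟩ := (Ideal.subset_union_prime_finite Set.finite_univ ⟨y₀, hy₀⟩ ⟨y₀, hy₀⟩
        (fun y _ _ _ => (hU.primeIdealOf ⟨y.1, y.2.1⟩).isPrime)).mp hsub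
      exact hkey y.1 y.2.1 y.2.2 hle
  obtain ⟨a, ha⟩ := hbD
  exact ⟨b, a, mem_nzd_of_forall hU hb, ha⟩

theorem isLocalization_toK :
    @IsLocalization Γ(X, U) _ (nonZeroDivisors Γ(X, U)) Γ(Mero.kmod X, U) _
      (Mero.toK X U).toAlgebra := by
  letI := (Mero.toK X U).toAlgebra
  refine (isLocalization_iff _ _).mpr ⟨fun s => ?_, fun f => ?_, fun {a b} h => ⟨1, ?_⟩⟩
  · let S : Mero.regSub X U := ⟨s.1, fun y => germ_mem_nzd hU s.2 y.2⟩
    exact IsUnit.of_mul_eq_one ⟨fun y => LocalizedModule.mk (X.presheaf.germ U y.1 y.2 1) (Mero.regGerm y S),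
      fun y => ⟨U, y.2, 𝟙 _, 1, S, fun _ => rfl⟩⟩ (Subtype.ext (funext fun y =>
        LocalizedModule.mk_mul_mk.trans ((Mero.mk_congr (by rw [map_one, mul_one]) (by rw [one_mul])).trans
          (Mero.mk_self_eq_one (Mero.regGerm y S)))))
  · obtain ⟨b, a, hb, hab⟩ := exists_denominator hU hT f
    exact ⟨(a, ⟨b, hb⟩), hab⟩
  · refine congrArg _ (TopCat.Presheaf.section_ext X.sheaf _ _ _ fun y hy => ?_)
    exact Mero.algebraMap_KStalk_injective y (congrArg (fun φ => φ.1 ⟨y, hy⟩) h)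

end Groth.Agent.H29Mero

namespace Groth.Agent.H29Mero

/-- Over an affine open with Noetherian sections there are finitely many weakly associated points. -/
lemma finite_weakAss {X : Scheme.{u}} {U : X.Opens} (hU : IsAffineOpen U) [IsNoetherianRing Γ(X, U)] :
    {y : X | y ∈ U ∧ Curv2.IsWeakAssPoint (Coh.structureModule X) y}.Finite := by
  have h : {y : U | Curv2.IsWeakAssPoint (Coh.structureModule X) y.1}.Finite := by
    refine Set.Finite.of_finite_image (f := fun y : U => (hU.primeIdealOf y).asIdeal)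
      ((associatedPrimes.finite Γ(X, U) Γ(X, U)).subset ?_) (fun a _ b _ h ↦ Subtype.ext
      ((((H29Blow.primeIdealOf_le_iff hU a b).mp (le_of_eq h)).antisymm
        ((H29Blow.primeIdealOf_le_iff hU b a).mp (le_of_eq h.symm))).eq))
    rintro - ⟨y, hy, rfl⟩
    letI := TopCat.Presheaf.algebra_section_stalk X.presheaf y
    haveI := hU.isLocalization_stalk y
    have := Module.associatedPrimes.comap_mem_associatedPrimes_of_mem_associatedPrimes_of_isLocalizedModule_of_fg
      (hU.primeIdealOf y).asIdeal.primeCompl (Algebra.linearMap Γ(X, U) (X.presheaf.stalk y.1))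
      (IsLocalRing.maximalIdeal (X.presheaf.stalk y.1))
      ((H29Blow.isWeakAssPoint_structureModule_iff y.1).mp hy) (IsNoetherian.noetherian _)
    rwa [← Ideal.under_def, IsLocalization.AtPrime.under_maximalIdeal (X.presheaf.stalk y.1) (hU.primeIdealOf y).asIdeal] at this
  exact (h.image Subtype.val).subset fun y hy => ⟨⟨y, hy.1⟩, hy.2, rfl⟩

/-- If weakly associated points are generic and `U` has finitely many components, there are
finitely many weakly associated points on `U`. -/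
lemma finite_weakAss_of_generic {X : Scheme.{u}} {U : X.Opens}
    (ha : ∀ x : ↥X, Curv2.IsWeakAssPoint (Coh.structureModule X) x → ∀ y : ↥X, y ⤳ x → y = x)
    (hb : (irreducibleComponents ↥(U : Scheme.{u})).Finite) :
    {y : X | y ∈ U ∧ Curv2.IsWeakAssPoint (Coh.structureModule X) y}.Finite := by
  have hmax : ∀ (y : (U : Scheme.{u})), Curv2.IsWeakAssPoint (Coh.structureModule X) (U.ι y) →
      closure {y} ∈ irreducibleComponents ↥(U : Scheme.{u}) := by
    intro y hy
    refine ⟨isIrreducible_singleton.closure, fun Z hZ hle => ?_⟩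
    obtain ⟨η, hη⟩ := QuasiSober.sober hZ.closure isClosed_closure
    have hspec : η ⤳ y := hη.specializes (subset_closure (hle (subset_closure rfl)))
    have hηy : η = y := U.ι.isOpenEmbedding.injective (ha _ hy _ (hspec.map U.ι.continuous))
    rw [show closure ({y} : Set (U : Scheme.{u})) = closure Z from hηy ▸ hη]
    exact subset_closure
  have h : {y : (U : Scheme.{u}) | Curv2.IsWeakAssPoint (Coh.structureModule X) (U.ι y)}.Finite :=
    Set.Finite.of_finite_image (f := fun y => closure ({y} : Set (U : Scheme.{u})))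
      (hb.subset (by rintro - ⟨y, hy, rfl⟩; exact hmax y hy))
      (fun a _ b _ h => ((specializes_iff_closure_subset.mpr h.ge).antisymm
        (specializes_iff_closure_subset.mpr h.le)).eq)
  exact (h.image U.ι).subset fun y hy => ⟨⟨y, hy.1⟩, hy.2, rfl⟩

end Groth.Agent.H29Mero
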