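import Mathlib
import Groth.Prelude.Def_MeroDiv
import Groth.Prelude.Def_Pic
import Groth.Agent.H29Mero.Affine

/-!
# Regular meromorphic sections of invertible modules
-/

set_option autoImplicit false

universe u

open CategoryTheory AlgebraicGeometry TopologicalSpace Opposite

namespace Groth.Agent.H29Mero

variable {X : Scheme.{u}}

lemma isNilpotent_of_maximal {x : X} (hx : ∀ y : X, y ⤳ x → y = x) {g : X.presheaf.stalk x}
    (hg : ¬ IsUnit g) : IsNilpotent g := by
  have hsub : ∀ p : PrimeSpectrum (X.presheaf.stalk x),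
      p = IsLocalRing.closedPoint (X.presheaf.stalk x) := by
    intro p
    apply (X.fromSpecStalk x).isEmbedding.injective
    have : (X.fromSpecStalk x) p ∈ Set.range (X.fromSpecStalk x) := ⟨p, rfl⟩
    rw [Scheme.range_fromSpecStalk] at this
    rw [hx _ this]
    exact Scheme.fromSpecStalk_closedPoint.symm
  rw [← mem_nilradical, nilradical_eq_sInf, Ideal.mem_sInf]
  intro P hP
  have := congrArg PrimeSpectrum.asIdeal (hsub ⟨P, hP⟩)
  simp only [IsLocalRing.closedPoint] at this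
  rw [this, IsLocalRing.mem_maximalIdeal]
  exact hg

/-- An invertible module has generators near every point. -/
lemma exists_generator {L : X.Modules} (hL : PicF.IsInvertible L) (x : X) :
    ∃ (V : X.Opens) (e : Γ(L, V)), x ∈ V ∧ ∀ (y : X) (hy : y ∈ V),
      Function.Bijective fun r : X.presheaf.stalk y => r • L.presheaf.germ V y hy e := by
  obtain ⟨U, hxU, ⟨φ⟩⟩ := hL x
  let one : ∀ W : (U : Scheme.{u}).Opens, Γ(Coh.structureModule (U : Scheme.{u}), W) :=
    fun W => (1 : Γ((U : Scheme.{u}), W))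
  let e₀ : Γ(L, U.ι ''ᵁ ⊤) := φ.inv.app ⊤ (one ⊤)
  have hbij : ∀ (W : (U : Scheme.{u}).Opens), Function.Bijective fun r : Γ(X, U.ι ''ᵁ W) =>
      r • L.presheaf.map (homOfLE (Scheme.Hom.image_mono U.ι (le_top : W ≤ ⊤))).op e₀ := by
    intro W
    have hφ : Function.Bijective (φ.inv.app W) := ConcreteCategory.bijective_of_isIso _
    have h1 : φ.inv.app W (one W) =
        L.presheaf.map (homOfLE (Scheme.Hom.image_mono U.ι (le_top : W ≤ ⊤))).op e₀ := by
      have h2 : (Coh.structureModule (U : Scheme.{u})).presheaf.map (homOfLE (le_top : W ≤ ⊤)).op (one ⊤) =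
          one W := map_one ((U : Scheme.{u}).presheaf.map (homOfLE (le_top : W ≤ ⊤)).op).hom
      rw [← h2]
      exact congr($(φ.inv.mapPresheaf.naturality (homOfLE (le_top : W ≤ ⊤)).op) (one ⊤))
    refine (Function.Bijective.of_comp_iff _
      (ConcreteCategory.bijective_of_isIso (U.ι.appIso W).inv)).mp ?_
    have h3 : ∀ r : Γ((U : Scheme.{u}), W), (U.ι.appIso W).inv r •
        L.presheaf.map (homOfLE (Scheme.Hom.image_mono U.ι (le_top : W ≤ ⊤))).op e₀ = φ.inv.app W r := by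
      intro r
      have h4 := Scheme.Modules.Hom.app_smul φ.inv (U := W) r (one W)
      rw [h1] at h4
      refine Eq.trans ?_ (h4.symm.trans (congrArg (φ.inv.app W) (mul_one r)))
      rfl
    exact ⟨fun a b h => hφ.1 ((h3 a).symm.trans (h.trans (h3 b))),
      fun m => (hφ.2 m).imp fun a ha => (h3 a).trans ha⟩
  have hxV : x ∈ U.ι ''ᵁ ⊤ := by rw [Scheme.Hom.image_top_eq_opensRange, Scheme.Opens.opensRange_ι]; exact hxU
  refine ⟨U.ι ''ᵁ ⊤, e₀, hxV, fun y hy => ⟨?_, ?_⟩⟩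
  · intro r r' hrr
    rw [← sub_eq_zero]
    obtain ⟨y', -, e⟩ := id hy
    have hd : (r - r') • L.presheaf.germ (U.ι ''ᵁ ⊤) y hy e₀ = 0 := by
      rw [sub_smul]; exact sub_eq_zero.mpr hrr
    generalize r - r' = ρ at hd ⊢
    obtain ⟨T, hyT, d, rfl⟩ := X.presheaf.germ_exist ρ
    let W : (U : Scheme.{u}).Opens := U.ι ⁻¹ᵁ T
    have hyW : y ∈ U.ι ''ᵁ W := ⟨y', (e.symm ▸ hyT : _ ∈ T), e⟩
    have hWT : U.ι ''ᵁ W ≤ T := by rintro - ⟨z, hz, rfl⟩; exact hz
    have hz : L.presheaf.germ (U.ι ''ᵁ W) y hyW (X.presheaf.map (homOfLE hWT).op d •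
        L.presheaf.map (homOfLE (Scheme.Hom.image_mono U.ι (le_top : W ≤ ⊤))).op e₀) = 0 := by
      rw [Mero.germ_smul, X.presheaf.germ_res_apply, L.presheaf.germ_res_apply]
      exact hd
    obtain ⟨T', hyT', i, j, hT'⟩ := L.presheaf.germ_eq y hyW hyW _ _
      (hz.trans (map_zero (L.presheaf.germ (U.ι ''ᵁ W) y hyW).hom).symm)
    let W' : (U : Scheme.{u}).Opens := U.ι ⁻¹ᵁ T'
    have hW'T' : U.ι ''ᵁ W' ≤ T' := by rintro - ⟨z, hz, rfl⟩; exact hz
    have hW'W : U.ι ''ᵁ W' ≤ U.ι ''ᵁ W := hW'T'.trans (leOfHom i)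
    have h5 := congrArg (L.presheaf.map (homOfLE hW'T').op) hT'
    rw [map_zero, map_zero, ← ConcreteCategory.comp_apply, ← Functor.map_comp] at h5
    have h6 : X.presheaf.map (homOfLE (hW'W.trans hWT)).op d •
        L.presheaf.map (homOfLE (Scheme.Hom.image_mono U.ι (le_top : W' ≤ ⊤))).op e₀ = 0 := by
      refine Eq.trans ?_ h5
      refine Eq.symm ((Scheme.Modules.map_smul L (homOfLE hW'W) _ _).trans ?_)
      congr 1
      · exact congr($((X.presheaf.map_comp _ _).symm) d)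
      · exact congr($((L.presheaf.map_comp _ _).symm) e₀)
    have h7 : X.presheaf.map (homOfLE (hW'W.trans hWT)).op d = 0 :=
      (hbij W').1 (h6.trans (zero_smul _ _).symm)
    rw [← X.presheaf.germ_res_apply (homOfLE (hW'W.trans hWT)) y ⟨y', (e.symm ▸ hyT' : _ ∈ T'), e⟩, h7, map_zero]
  · intro m
    obtain ⟨T, hyT, s, rfl⟩ := L.presheaf.germ_exist m
    let W : (U : Scheme.{u}).Opens := U.ι ⁻¹ᵁ T
    obtain ⟨y', -, e⟩ := id hy
    have hyW : y ∈ U.ι ''ᵁ W := ⟨y', (e.symm ▸ hyT : _ ∈ T), e⟩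
    have hWT : U.ι ''ᵁ W ≤ T := by rintro - ⟨z, hz, rfl⟩; exact hz
    obtain ⟨r, hr⟩ := (hbij W).2 (L.presheaf.map (homOfLE hWT).op s)
    refine ⟨X.presheaf.germ (U.ι ''ᵁ W) y hyW r, ?_⟩
    have := congrArg (L.presheaf.germ (U.ι ''ᵁ W) y hyW) hr
    simp only [Mero.germ_smul, L.presheaf.germ_res_apply] at this
    exact this


variable (L : X.Modules)

/-- Two fractions agreeing at the weakly associated points agree, if `L` has a generator. -/
lemma mk_eq_of_agree {V : X.Opens} {e : Γ(L, V)}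
    (he : ∀ (y : X) (hy : y ∈ V), Function.Bijective fun r : X.presheaf.stalk y => r • L.presheaf.germ V y hy e)
    {W : X.Opens} (hWV : W ≤ V) (m m' : Γ(L, W)) (b b' : Mero.regSub X W)
    (h : ∀ (y : X) (hy : y ∈ W), Curv2.IsWeakAssPoint (Coh.structureModule X) y →
      (LocalizedModule.mk (L.presheaf.germ W y hy m) (Mero.regGerm ⟨y, hy⟩ b) : Mero.MStalk L y) =
        LocalizedModule.mk (L.presheaf.germ W y hy m') (Mero.regGerm ⟨y, hy⟩ b'))
    (x : X) (hx : x ∈ W) :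
    (LocalizedModule.mk (L.presheaf.germ W x hx m) (Mero.regGerm ⟨x, hx⟩ b) : Mero.MStalk L x) =
        LocalizedModule.mk (L.presheaf.germ W x hx m') (Mero.regGerm ⟨x, hx⟩ b') := by
  let d : Γ(L, W) := b'.1 • m - b.1 • m'
  obtain ⟨r, hr⟩ := (he x (hWV hx)).2 (L.presheaf.germ W x hx d)
  obtain ⟨T, hxT, r₀, rfl⟩ := X.presheaf.germ_exist r
  have hrd : L.presheaf.germ (T ⊓ W) x ⟨hxT, hx⟩ (X.presheaf.map (homOfLE (inf_le_left : T ⊓ W ≤ T)).op r₀ •
      L.presheaf.map (homOfLE ((inf_le_right : T ⊓ W ≤ W).trans hWV)).op e) = L.presheaf.germ W x hx d := by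
    rw [Mero.germ_smul, X.presheaf.germ_res_apply, L.presheaf.germ_res_apply]
    exact hr
  obtain ⟨T', hxT', i₁, i₂, hT'⟩ := L.presheaf.germ_eq x _ _ _ _ hrd
  obtain ⟨A, hA, hxA, hAsub⟩ := exists_isAffineOpen_mem_and_subset (U := T') (x := x) hxT'
  have hAT : A ≤ T' := hAsub
  let rA : Γ(X, A) := X.presheaf.map (homOfLE (hAT.trans ((leOfHom i₁).trans inf_le_left))).op r₀
  have hzero : rA = 0 := by
    by_contra hne
    obtain ⟨y, hy, hw, hg⟩ := H29Blow.exists_isWeakAssPoint_germ_ne_zero ⟨A, hA⟩ hne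
    refine hg ?_
    have hyW : y ∈ W := leOfHom i₂ (hAT hy)
    have hd0 : L.presheaf.germ W y hyW d = 0 := by
      obtain ⟨⟨c, hc⟩, hcc⟩ := LocalizedModule.mk_eq.mp (h y hyW hw)
      simp only [Submonoid.smul_def] at hcc
      have hu : IsUnit c := isUnit_of_weakAss hw (Mero.regStalk_le_nonZeroDivisors y hc)
      rw [hu.smul_left_cancel] at hcc
      rw [map_sub, Mero.germ_smul, Mero.germ_smul, sub_eq_zero]
      exact hcc
    have h1 := congrArg (L.presheaf.germ T' y (hAT hy)) hT'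
    rw [L.presheaf.germ_res_apply, L.presheaf.germ_res_apply, hd0, Mero.germ_smul,
      X.presheaf.germ_res_apply, L.presheaf.germ_res_apply] at h1
    rw [X.presheaf.germ_res_apply]
    exact (he y _).1 (h1.trans (zero_smul _ _).symm)
  have hr0 : X.presheaf.germ T x hxT r₀ = 0 := by
    rw [← X.presheaf.germ_res_apply (homOfLE (hAT.trans ((leOfHom i₁).trans inf_le_left))) x hxA r₀]
    exact (congrArg _ hzero).trans (map_zero _)
  rw [hr0] at hr
  simp only [zero_smul] at hr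
  rw [map_sub, Mero.germ_smul, Mero.germ_smul, eq_comm, sub_eq_zero] at hr
  refine LocalizedModule.mk_eq.mpr ⟨1, ?_⟩
  simp only [Submonoid.smul_def, OneMemClass.coe_one, one_smul]
  exact hr

variable (hgen : ∀ y : X, Curv2.IsWeakAssPoint (Coh.structureModule X) y → ∀ z : X, z ⤳ y → z = y)
  (hfin : ∀ U : X.Opens, IsAffineOpen U →
    {y : X | y ∈ U ∧ Curv2.IsWeakAssPoint (Coh.structureModule X) y}.Finite)

include hgen in
/-- Prescribed unit germs at finitely many generic weakly associated points are a quotient of regular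
elements. -/
lemma exists_interpolate {A : X.Opens} (hA : IsAffineOpen A)
    (hT : {y : X | y ∈ A ∧ Curv2.IsWeakAssPoint (Coh.structureModule X) y}.Finite)
    (c : ∀ y : {y : X | y ∈ A ∧ Curv2.IsWeakAssPoint (Coh.structureModule X) y}, (X.presheaf.stalk y.1)ˣ) :
    ∃ a b : Γ(X, A), a ∈ nonZeroDivisors Γ(X, A) ∧ b ∈ nonZeroDivisors Γ(X, A) ∧
      ∀ y, X.presheaf.germ A y.1 y.2.1 a = (c y : X.presheaf.stalk y.1) * X.presheaf.germ A y.1 y.2.1 b := by
  classical
  let T := {y : X | y ∈ A ∧ Curv2.IsWeakAssPoint (Coh.structureModule X) y}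
  haveI := hT.fintype
  have hc : ∀ y : T, ∃ a b : Γ(X, A), IsUnit (X.presheaf.germ A y.1 y.2.1 a) ∧
      IsUnit (X.presheaf.germ A y.1 y.2.1 b) ∧
      X.presheaf.germ A y.1 y.2.1 a = (c y : X.presheaf.stalk y.1) * X.presheaf.germ A y.1 y.2.1 b := by
    intro y
    letI := TopCat.Presheaf.algebra_section_stalk X.presheaf (⟨y.1, y.2.1⟩ : A)
    haveI := hA.isLocalization_stalk ⟨y.1, y.2.1⟩
    obtain ⟨⟨a, b⟩, hab⟩ := IsLocalization.surj (hA.primeIdealOf ⟨y.1, y.2.1⟩).asIdeal.primeCompl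
      (c y : X.presheaf.stalk y.1)
    have hb : IsUnit (X.presheaf.germ A y.1 y.2.1 (b : Γ(X, A))) := IsLocalization.map_units _ b
    have hab' : (c y : X.presheaf.stalk y.1) * X.presheaf.germ A y.1 y.2.1 (b : Γ(X, A)) =
        X.presheaf.germ A y.1 y.2.1 a := hab
    exact ⟨a, b, hab' ▸ (c y).isUnit.mul hb, hb, hab'.symm⟩
  choose a b hau hbu hab using hc
  -- elements separating the points
  have hsep : ∀ y z : T, y ≠ z → ∃ h : Γ(X, A), IsUnit (X.presheaf.germ A y.1 y.2.1 h) ∧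
      X.presheaf.germ A z.1 z.2.1 h = 0 := by
    intro y z hne
    have : ¬ (hA.primeIdealOf ⟨z.1, z.2.1⟩).asIdeal ≤ (hA.primeIdealOf ⟨y.1, y.2.1⟩).asIdeal :=
      fun hle => hne (Subtype.ext (hgen y.1 y.2.2 z.1
        ((H29Blow.primeIdealOf_le_iff hA ⟨z.1, z.2.1⟩ ⟨y.1, y.2.1⟩).mp hle)).symm)
    obtain ⟨h, hz, hy⟩ := Set.not_subset.mp this
    obtain ⟨n, hn⟩ := isNilpotent_of_maximal (hgen z.1 z.2.2)
      ((H29Blow.mem_primeIdealOf_iff hA ⟨z.1, z.2.1⟩ h).mp hz)
    refine ⟨h ^ n, ?_, by rw [map_pow]; exact hn⟩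
    rw [map_pow]
    exact IsUnit.pow n (by_contra fun hu => hy ((H29Blow.mem_primeIdealOf_iff hA ⟨y.1, y.2.1⟩ h).mpr hu))
  choose h hu h0 using hsep
  let H : T → Γ(X, A) := fun y => ∏ z : T, if hz : y ≠ z then h y z hz else 1
  have hHu : ∀ y : T, IsUnit (X.presheaf.germ A y.1 y.2.1 (H y)) := fun y => by
    rw [map_prod, IsUnit.prod_iff]
    intro z _
    by_cases hz : y ≠ z
    · rw [dif_pos hz]; exact hu y z hz
    · rw [dif_neg hz, map_one]; exact isUnit_one
  have hH0 : ∀ y z : T, y ≠ z → X.presheaf.germ A z.1 z.2.1 (H y) = 0 := fun y z hne => by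
    rw [map_prod]
    exact Finset.prod_eq_zero (Finset.mem_univ z) (by rw [dif_pos hne]; exact h0 y z hne)
  have hval : ∀ (φ : T → Γ(X, A)) (z : T), X.presheaf.germ A z.1 z.2.1 (∑ y, H y * φ y) =
      X.presheaf.germ A z.1 z.2.1 (H z) * X.presheaf.germ A z.1 z.2.1 (φ z) := fun φ z => by
    rw [map_sum, Finset.sum_eq_single z (fun y _ hne => by rw [map_mul, hH0 y z hne, zero_mul])
      (by simp), map_mul]
  refine ⟨∑ y, H y * a y, ∑ y, H y * b y, mem_nzd_of_forall hA fun y hy hw => ?_,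
    mem_nzd_of_forall hA fun y hy hw => ?_, fun z => ?_⟩
  · exact (hval a ⟨y, hy, hw⟩).symm ▸ (hHu ⟨y, hy, hw⟩).mul (hau ⟨y, hy, hw⟩)
  · exact (hval b ⟨y, hy, hw⟩).symm ▸ (hHu ⟨y, hy, hw⟩).mul (hbu ⟨y, hy, hw⟩)
  · rw [hval a z, hval b z, hab z, mul_left_comm]

include hgen hfin in
theorem hasRegularMero (hL : PicF.IsInvertible L) : Mero.HasRegularMero L := by
  classical
  choose V e hxV he using fun x => exists_generator hL x
  -- normalised generators at the weakly associated points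
  let ε : ∀ y : X, L.presheaf.stalk y := fun y => L.presheaf.germ (V y) y (hxV y) (e y)
  have hloc : ∀ x : X, ∃ (A : X.Opens) (m : Γ(L, A)) (b : Mero.regSub X A) (hA : x ∈ A), A ≤ V x ∧
      (∃ a : Γ(X, A), a ∈ Mero.regSub X A ∧ ∀ hx : x ∈ V x, L.presheaf.germ A x hA m =
        X.presheaf.germ A x hA a • L.presheaf.germ (V x) x hx (e x)) ∧
      ∀ (y : X) (hy : y ∈ A), Curv2.IsWeakAssPoint (Coh.structureModule X) y →
        (LocalizedModule.mk (L.presheaf.germ A y hy m) (Mero.regGerm ⟨y, hy⟩ b) : Mero.MStalk L y) =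
          LocalizedModule.mk (ε y) 1 := by
    intro x
    obtain ⟨A, hA, hxA, hAsub⟩ := exists_isAffineOpen_mem_and_subset (U := V x) (x := x) (hxV x)
    have hAV : A ≤ V x := hAsub
    have hc : ∀ y : {y : X | y ∈ A ∧ Curv2.IsWeakAssPoint (Coh.structureModule X) y},
        ∃ c : (X.presheaf.stalk y.1)ˣ, (c : X.presheaf.stalk y.1) • L.presheaf.germ (V x) y.1 (hAV y.2.1) (e x) = ε y.1 := by
      intro y
      obtain ⟨c, hc⟩ := (he x y.1 (hAV y.2.1)).2 (ε y.1)
      obtain ⟨c', hc'⟩ := (he y.1 y.1 (hxV y.1)).2 (L.presheaf.germ (V x) y.1 (hAV y.2.1) (e x))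
      have hcc : c * c' = 1 := by
        apply (he y.1 y.1 (hxV y.1)).1
        simp only at hc hc' ⊢
        rw [mul_smul, hc', one_smul]
        exact hc
      exact ⟨(IsUnit.of_mul_eq_one c' hcc).unit, hc⟩
    choose c hc using hc
    obtain ⟨a, b, ha, hb, hab⟩ := exists_interpolate hgen hA (hfin A hA) c
    refine ⟨A, a • L.presheaf.map (homOfLE hAV).op (e x), ⟨b, fun y => germ_mem_nzd hA hb y.2⟩, hxA, hAV,
      ⟨a, fun y => germ_mem_nzd hA ha y.2, fun hx => ?_⟩, fun y hy hw => ?_⟩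
    · rw [Mero.germ_smul, L.presheaf.germ_res_apply]
    · rw [Mero.germ_smul, L.presheaf.germ_res_apply, hab ⟨y, hy, hw⟩]
      refine LocalizedModule.mk_eq.mpr ⟨1, ?_⟩
      simp only [Submonoid.smul_def, OneMemClass.coe_one, one_smul]
      rw [← hc ⟨y, hy, hw⟩, ← mul_smul, mul_comm]
  choose A m b hxA hAV hreg hagree using hloc
  let f : ∀ x : (⊤ : X.Opens), Mero.MStalk L x.1 := fun x =>
    LocalizedModule.mk (L.presheaf.germ (A x.1) x.1 (hxA x.1) (m x.1)) (Mero.regGerm ⟨x.1, hxA x.1⟩ (b x.1))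
  have hpred : (Mero.mLoc L).pred f := by
    rintro ⟨x, -⟩
    refine ⟨A x, hxA x, homOfLE le_top, m x, b x, fun y => ?_⟩
    dsimp only [f]
    let W : X.Opens := A y.1 ⊓ A x
    have key := mk_eq_of_agree L (he x) (W := W) (inf_le_right.trans (hAV x))
      (L.presheaf.map (homOfLE (inf_le_left : W ≤ A y.1)).op (m y.1))
      (L.presheaf.map (homOfLE (inf_le_right : W ≤ A x)).op (m x))
      ⟨_, Mero.regSub_res (homOfLE (inf_le_left : W ≤ A y.1)) (b y.1).2⟩
      ⟨_, Mero.regSub_res (homOfLE (inf_le_right : W ≤ A x)) (b x).2⟩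
      (fun z hz hw => by
        refine Eq.trans ?_ ((hagree y.1 z hz.1 hw).trans ((hagree x z hz.2 hw).symm.trans ?_))
        · exact Mero.mk_congr (L.presheaf.germ_res_apply _ _ _ _) (X.presheaf.germ_res_apply _ _ _ _)
        · exact (Mero.mk_congr (L.presheaf.germ_res_apply _ _ _ _) (X.presheaf.germ_res_apply _ _ _ _)).symm)
      y.1 ⟨hxA y.1, y.2⟩
    refine Eq.trans ?_ (key.trans ?_)
    · exact (Mero.mk_congr (L.presheaf.germ_res_apply _ _ _ _) (X.presheaf.germ_res_apply _ _ _ _)).symm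
    · exact Mero.mk_congr (L.presheaf.germ_res_apply _ _ _ _) (X.presheaf.germ_res_apply _ _ _ _)
  refine ⟨⟨f, hpred⟩, fun x q hq => ?_⟩
  obtain ⟨a, ha, hma⟩ := hreg x
  induction q using LocalizedModule.induction_on with
  | h r t =>
    change (LocalizedModule.mk r t : Mero.KStalk X x) • f ⟨x, trivial⟩ = 0 at hq
    dsimp only [f] at hq
    replace hq := (LocalizedModule.mk_smul_mk _ _ _ _).symm.trans hq
    obtain ⟨⟨u, hu⟩, hu0⟩ := LocalizedModule.mk_eq.mp
      (hq.trans (LocalizedModule.zero_mk (1 : Mero.regStalk X x)).symm)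
    simp only [Submonoid.smul_def, OneMemClass.coe_one, one_smul, smul_zero, hma (hxV x), smul_smul] at hu0
    have h0 : u * (r * X.presheaf.germ (A x) x (hxA x) a) = 0 :=
      (he x x (hxV x)).1 (hu0.trans (zero_smul _ _).symm)
    rw [mul_right_mem_nonZeroDivisors_eq_zero_iff (ha ⟨x, hxA x⟩) |>.mp
      ((mem_nonZeroDivisors_iff.mp (Mero.regStalk_le_nonZeroDivisors x hu)).1 _ h0),
      LocalizedModule.zero_mk]

end Groth.Agent.H29Mero
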