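import Mathlib
import Groth.Prelude.Def_MeroDiv
import Groth.Agent.H29Blow.PointsOfAffine

/-!
# Divisors on a one-dimensional Noetherian scheme are finitely supported families of germs
-/

set_option autoImplicit false

universe u

open CategoryTheory AlgebraicGeometry TopologicalSpace Opposite

namespace Groth.Agent.H29Mero

variable {C : Scheme.{u}}

lemma isClosed_or_maximal [IsNoetherian C]
    (hC : ∀ x : C, IsClosed ({x} : Set C) → ringKrullDim (C.presheaf.stalk x) = 1) (x : C) :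
    IsClosed ({x} : Set C) ∨ ∀ y : C, y ⤳ x → y = x := by
  by_contra hcon
  push Not at hcon
  obtain ⟨hx, y, hyx, hne⟩ := hcon
  obtain ⟨z, hz, hzc⟩ := IsClosed.exists_closed_singleton (isClosed_closure (s := ({x} : Set C)))
    ⟨x, subset_closure rfl⟩
  have hxz : x ⤳ z := specializes_iff_mem_closure.mpr hz
  have hxne : x ≠ z := fun h ↦ hx (h ▸ hzc)
  obtain ⟨V, hV, hzV, -⟩ := exists_isAffineOpen_mem_and_subset (U := (⊤ : C.Opens)) (x := z) trivial
  have hxV : x ∈ V := hxz.mem_open V.2 hzV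
  have hyV : y ∈ V := hyx.mem_open V.2 hxV
  have key : ∀ a b : V, (hV.primeIdealOf a).asIdeal ≤ (hV.primeIdealOf b).asIdeal → a.1 ≠ b.1 →
      (hV.primeIdealOf a).asIdeal < (hV.primeIdealOf b).asIdeal := fun a b h hne ↦
    lt_of_le_of_ne h fun he ↦ hne ((((H29Blow.primeIdealOf_le_iff hV a b).mp he.le).antisymm
      ((H29Blow.primeIdealOf_le_iff hV b a).mp he.ge)).eq)
  have h1 := key ⟨y, hyV⟩ ⟨x, hxV⟩ ((H29Blow.primeIdealOf_le_iff hV _ _).mpr hyx) hne
  have h2 := key ⟨x, hxV⟩ ⟨z, hzV⟩ ((H29Blow.primeIdealOf_le_iff hV _ _).mpr hxz) hxne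
  let zz : V := ⟨z, hzV⟩
  let q := (hV.primeIdealOf zz).asIdeal
  letI := TopCat.Presheaf.algebra_section_stalk C.presheaf zz
  haveI : IsLocalization.AtPrime (C.presheaf.stalk z) q := hV.isLocalization_stalk zz
  have hd : (q.height : WithBot ℕ∞) = 1 := by
    rw [← IsLocalization.AtPrime.ringKrullDim_eq_height q (C.presheaf.stalk z)]; exact hC z hzc
  have hh := Ideal.height_add_one_le_of_lt_of_isPrime (I := (hV.primeIdealOf ⟨x, hxV⟩).asIdeal) (J := q) h2
  have hh' := Ideal.height_add_one_le_of_lt_of_isPrime (I := (hV.primeIdealOf ⟨y, hyV⟩).asIdeal) h1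
  have h2' : (2 : ℕ∞) ≤ q.height := by
    calc (2 : ℕ∞) = 0 + 1 + 1 := by norm_num
      _ ≤ (hV.primeIdealOf ⟨x, hxV⟩).asIdeal.height + 1 :=
          add_le_add_left (le_trans (add_le_add_left zero_le 1) hh') 1
      _ ≤ _ := hh
  rw [show q.height = 1 by exact_mod_cast hd] at h2'
  norm_num at h2'

lemma isUnit_of_maximal {y : C} (hy : ∀ z : C, z ⤳ y → z = y) {s : C.presheaf.stalk y}
    (hs : s ∈ nonZeroDivisors (C.presheaf.stalk y)) : IsUnit s := by
  obtain ⟨V, hV, hyV, -⟩ := exists_isAffineOpen_mem_and_subset (U := (⊤ : C.Opens)) (x := y) trivial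
  let yy : V := ⟨y, hyV⟩
  letI := TopCat.Presheaf.algebra_section_stalk C.presheaf yy
  haveI : IsLocalization.AtPrime (C.presheaf.stalk y) (hV.primeIdealOf yy).asIdeal :=
    hV.isLocalization_stalk yy
  have hmin : (hV.primeIdealOf yy).asIdeal ∈ minimalPrimes Γ(C, V) :=
    (H29Blow.minimalPrimes_iff_maximal_point hV _).mpr hy
  have h0 : (IsLocalRing.maximalIdeal (C.presheaf.stalk y)).height = 0 := by
    have h := IsLocalization.AtPrime.ringKrullDim_eq_height (hV.primeIdealOf yy).asIdeal (C.presheaf.stalk y)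
    rw [← IsLocalRing.maximalIdeal_height_eq_ringKrullDim, Ideal.height_eq_zero_iff.mpr hmin] at h
    exact_mod_cast h
  by_contra hu
  exact Set.disjoint_left.mp (Ideal.disjoint_nonZeroDivisors_of_mem_minimalPrimes
    (Ideal.height_eq_zero_iff.mp h0)) ((IsLocalRing.mem_maximalIdeal _).mpr hu) hs

lemma germ_eq_one_of_maximal {y : C} (hy : ∀ z : C, z ⤳ y → z = y) (D : Mero.Germ C y) : D = 1 := by
  obtain ⟨k, rfl⟩ := QuotientGroup.mk_surjective D
  rw [QuotientGroup.eq_one_iff]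
  have hbij : Function.Bijective (algebraMap (C.presheaf.stalk y) (Mero.KStalk C y)) :=
    (IsLocalization.atUnits _ (Mero.regStalk C y) fun s hs ↦
      isUnit_of_maximal hy (Mero.regStalk_le_nonZeroDivisors y hs)).bijective
  refine ⟨Units.map (RingEquiv.ofBijective _ hbij).symm.toRingHom.toMonoidHom k, Units.ext ?_⟩
  exact (RingEquiv.ofBijective _ hbij).apply_symm_apply _

lemma exists_section {x : C} (a : Mero.regStalk C x) : ∃ (V : C.Opens) (hV : x ∈ V)
    (f : Γ(C, V)) (hf : f ∈ Mero.regSub C V), Mero.regGerm ⟨x, hV⟩ ⟨f, hf⟩ = a := by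
  obtain ⟨_, V, hV, f, hf, rfl⟩ := a
  exact ⟨V, hV, f, hf, rfl⟩

/-- The class of a regular germ. -/
noncomputable def cls (x : C) (a : Mero.regStalk C x) : Mero.Germ C x :=
  QuotientGroup.mk (IsLocalization.map_units (Mero.KStalk C x) a).unit

lemma cls_one (x : C) : cls x 1 = 1 := by
  rw [cls, show (IsLocalization.map_units (Mero.KStalk C x) (1 : Mero.regStalk C x)).unit = 1 from
    Units.ext (map_one _), QuotientGroup.mk_one]

lemma cls_eq_one {x : C} (a : Mero.regStalk C x) (ha : IsUnit (a : C.presheaf.stalk x)) :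
    cls x a = 1 := by
  rw [cls, QuotientGroup.eq_one_iff]
  exact ⟨ha.unit, Units.ext rfl⟩

lemma decompose (x : C) (k : (Mero.KStalk C x)ˣ) :
    ∃ a b : Mero.regStalk C x, QuotientGroup.mk k = cls x a * (cls x b)⁻¹ := by
  obtain ⟨⟨r, b⟩, hr⟩ := IsLocalization.surj (Mero.regStalk C x) (k : Mero.KStalk C x)
  obtain ⟨⟨t, c⟩, ht⟩ := IsLocalization.surj (Mero.regStalk C x) ((k⁻¹ : (Mero.KStalk C x)ˣ) : Mero.KStalk C x)
  have hmul : algebraMap (C.presheaf.stalk x) (Mero.KStalk C x) (r * t) =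
      algebraMap _ _ ((b : C.presheaf.stalk x) * c) := by
    rw [map_mul, map_mul, ← hr, ← ht]
    simp only
    linear_combination (algebraMap _ (Mero.KStalk C x) (b : C.presheaf.stalk x) *
      algebraMap _ (Mero.KStalk C x) (c : C.presheaf.stalk x)) * k.mul_inv
  have hrt : r * t = (b : C.presheaf.stalk x) * c := Mero.algebraMap_KStalk_injective x hmul
  -- `r` is a regular germ
  obtain ⟨W, hW, n, hn, hnb⟩ := exists_section (b * c)
  obtain ⟨U₁, h₁, r', hr'⟩ := C.presheaf.germ_exist r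
  obtain ⟨U₂, h₂, t', ht'⟩ := C.presheaf.germ_exist t
  have he : C.presheaf.germ (U₁ ⊓ U₂) x ⟨h₁, h₂⟩
      (C.presheaf.map (homOfLE inf_le_left).op r' * C.presheaf.map (homOfLE inf_le_right).op t') =
      C.presheaf.germ W x hW n := by
    rw [map_mul, C.presheaf.germ_res_apply, C.presheaf.germ_res_apply, hr', ht', hrt]
    exact congrArg Subtype.val hnb.symm
  obtain ⟨V, hxV, i₁, i₂, heq⟩ := C.presheaf.germ_eq x _ _ _ _ he
  have hreg : C.presheaf.map (i₁ ≫ homOfLE inf_le_left).op r' ∈ Mero.regSub C V := by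
    have h := Mero.regSub_res i₂ hn
    rw [← heq, map_mul] at h
    intro y
    have h' := h y
    rw [map_mul, mul_mem_nonZeroDivisors] at h'
    rw [op_comp, Functor.map_comp]
    exact h'.1
  let a : Mero.regStalk C x := Mero.regGerm ⟨x, hxV⟩ ⟨_, hreg⟩
  have ha : (a : C.presheaf.stalk x) = r := by
    change C.presheaf.germ V x hxV (C.presheaf.map (i₁ ≫ homOfLE inf_le_left).op r') = r
    rw [C.presheaf.germ_res_apply]; exact hr'
  refine ⟨a, b, eq_mul_inv_of_mul_eq ?_⟩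
  rw [cls, cls, ← QuotientGroup.mk_mul]
  refine congrArg _ (Units.ext ?_)
  change (k : Mero.KStalk C x) * algebraMap _ _ (b : C.presheaf.stalk x) = algebraMap _ _ (a : C.presheaf.stalk x)
  rw [hr, ha]

lemma algebraMap_mul_inv {y : C} {a : C.presheaf.stalk y} (s : Mero.regStalk C y) (ha : IsUnit a)
    (hs : IsUnit (s : C.presheaf.stalk y)) :
    algebraMap _ (Mero.KStalk C y) ((ha.unit * hs.unit⁻¹ : (C.presheaf.stalk y)ˣ) : C.presheaf.stalk y) =
      Localization.mk a s := by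
  rw [Localization.mk_eq_mk', IsLocalization.eq_mk'_iff_mul_eq, ← map_mul, Units.val_mul,
    IsUnit.unit_spec, mul_assoc, hs.val_inv_mul, mul_one]

variable [IsNoetherian C]
  (hC : ∀ x : C, IsClosed ({x} : Set C) → ringKrullDim (C.presheaf.stalk x) = 1)

include hC

lemma nonunit_isClosed_point {V : C.Opens} {f : Γ(C, V)} (hf : f ∈ Mero.regSub C V) {y : C}
    (hy : y ∈ V) (hyf : y ∉ C.basicOpen f) : IsClosed ({y} : Set C) :=
  (isClosed_or_maximal hC y).resolve_right fun hmax ↦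
    hyf ((C.mem_basicOpen f y hy).mpr (isUnit_of_maximal hmax (hf ⟨y, hy⟩)))

lemma nonunit_finite {V : C.Opens} {f : Γ(C, V)} (hf : f ∈ Mero.regSub C V) :
    ((V : Set C) \ C.basicOpen f).Finite := by
  haveI : NoetherianSpace V := NoetherianSpace.set _
  let F : Set V := Subtype.val ⁻¹' (C.basicOpen f : Set C)ᶜ
  have hF : IsClosed F := (C.basicOpen f).2.isClosed_compl.preimage continuous_subtype_val
  obtain ⟨S, hSfin, hS1, hS2, hS3⟩ := NoetherianSpace.exists_finite_set_isClosed_irreducible hF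
  refine Set.Finite.subset (hSfin.biUnion fun t ht ↦ Set.Subsingleton.finite (s := Subtype.val '' t) ?_) ?_
  · intro a ha b hb
    obtain ⟨ξ, hξ⟩ := QuasiSober.sober ((hS2 t ht).image _ continuous_subtype_val.continuousOn).closure
      isClosed_closure
    have hsub : t ⊆ F := fun p hp ↦ hS3 ▸ Set.mem_sUnion_of_mem hp ht
    have hξV : ξ ∈ V := by
      obtain ⟨p, hp⟩ := (hS2 t ht).nonempty
      exact (hξ.specializes (subset_closure ⟨p, hp, rfl⟩)).mem_open V.2 p.2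
    have hξt : (⟨ξ, hξV⟩ : V) ∈ t := by
      rw [← (hS1 t ht).closure_eq]
      exact closure_subtype.mpr hξ.mem
    have hξc : IsClosed ({ξ} : Set C) :=
      nonunit_isClosed_point hC hf hξV (hsub hξt)
    have hall : ∀ c ∈ Subtype.val '' t, c = ξ := fun c hc ↦
      hξc.closure_eq.le (specializes_iff_mem_closure.mp (hξ.specializes (subset_closure hc)))
    rw [hall a ha, hall b hb]
  · intro y hy
    have hyF : (⟨y, hy.1⟩ : V) ∈ F := hy.2
    rw [hS3] at hyF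
    obtain ⟨t, ht, hyt⟩ := hyF
    exact Set.mem_biUnion ht ⟨_, hyt, rfl⟩

lemma finite_support_of_mem {g : ∀ x : C, Mero.Germ C x} (hg : g ∈ Mero.divisorGroup C) :
    {x : C | g x ≠ 1}.Finite ∧ ∀ x : C, ¬ IsClosed ({x} : Set C) → g x = 1 := by
  refine ⟨?_, fun x hx ↦ germ_eq_one_of_maximal ((isClosed_or_maximal hC x).resolve_left hx) _⟩
  have hloc : ∀ x : C, ∃ V : C.Opens, x ∈ V ∧ {y : C | y ∈ V ∧ g y ≠ 1}.Finite := by
    intro x
    obtain ⟨U, hxU, f, hfg⟩ := hg x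
    obtain ⟨Va, ma, ia, ra, sa, wa⟩ := (f : Γ(Mero.kmod C, U)).2 ⟨x, hxU⟩
    obtain ⟨Vb, mb, ib, rb, sb, wb⟩ := ((f⁻¹ : (Γ(Mero.kmod C, U))ˣ) : Γ(Mero.kmod C, U)).2 ⟨x, hxU⟩
    let V : C.Opens := Va ⊓ Vb
    let N : Γ(C, V) := C.presheaf.map (homOfLE inf_le_left).op sa.1 *
      C.presheaf.map (homOfLE inf_le_right).op sb.1
    have hN : N ∈ Mero.regSub C V :=
      Submonoid.mul_mem _ (Mero.regSub_res _ sa.2) (Mero.regSub_res _ sb.2)
    refine ⟨V, ⟨ma, mb⟩, (nonunit_finite hC hN).subset ?_⟩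
    rintro y ⟨⟨hya, hyb⟩, hy⟩
    refine ⟨⟨hya, hyb⟩, fun hu ↦ hy ?_⟩
    have hu' := (C.mem_basicOpen N y ⟨hya, hyb⟩).mp hu
    rw [map_mul, C.presheaf.germ_res_apply, C.presheaf.germ_res_apply, IsUnit.mul_iff] at hu'
    have wa' := wa ⟨y, hya⟩
    have wb' := wb ⟨y, hyb⟩
    dsimp only at wa' wb'
    have h1 : Mero.evalK C U (ia ⟨y, hya⟩) (f : Γ(Mero.kmod C, U)) *
        Mero.evalK C U (ia ⟨y, hya⟩) ((f⁻¹ : (Γ(Mero.kmod C, U))ˣ) : Γ(Mero.kmod C, U)) = 1 := by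
      rw [← map_mul, f.mul_inv, map_one]
    change (f : Γ(Mero.kmod C, U)).1 (ia ⟨y, hya⟩) *
      ((f⁻¹ : (Γ(Mero.kmod C, U))ˣ) : Γ(Mero.kmod C, U)).1 (ia ⟨y, hya⟩) = 1 at h1
    have h4 : (LocalizedModule.mk (C.presheaf.germ Va y hya ra) (Mero.regGerm ⟨y, hya⟩ sa) :
        Mero.KStalk C y) * LocalizedModule.mk (C.presheaf.germ Vb y hyb rb) (Mero.regGerm ⟨y, hyb⟩ sb) = 1 := by
      rw [← wa', ← wb']; exact h1
    replace h4 := LocalizedModule.mk_mul_mk.symm.trans h4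
    -- numerators are units
    let D : Mero.regStalk C y := Mero.regGerm ⟨y, hya⟩ sa * Mero.regGerm ⟨y, hyb⟩ sb
    have h2 : algebraMap (C.presheaf.stalk y) (Mero.KStalk C y)
        (C.presheaf.germ Va y hya ra * C.presheaf.germ Vb y hyb rb) =
        algebraMap _ _ (D : C.presheaf.stalk y) := by
      have h3 : IsLocalization.mk' (Mero.KStalk C y)
          (C.presheaf.germ Va y hya ra * C.presheaf.germ Vb y hyb rb) D = 1 := by
        rw [← Localization.mk_eq_mk']; exact h4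
      rw [← IsLocalization.mk'_spec (Mero.KStalk C y)
        (C.presheaf.germ Va y hya ra * C.presheaf.germ Vb y hyb rb) D, h3, one_mul]
    have hD : IsUnit (D : C.presheaf.stalk y) := hu'.1.mul hu'.2
    rw [← Mero.algebraMap_KStalk_injective y h2, IsUnit.mul_iff] at hD
    refine (hfg (ia ⟨y, hya⟩)).trans ?_
    rw [Mero.germOf, QuotientGroup.eq_one_iff]
    refine ⟨hD.1.unit * hu'.1.unit⁻¹, Units.ext ?_⟩
    change algebraMap _ _ ((hD.1.unit * hu'.1.unit⁻¹ : (C.presheaf.stalk y)ˣ) : C.presheaf.stalk y) =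
      (f : Γ(Mero.kmod C, U)).1 (ia ⟨y, hya⟩)
    exact (algebraMap_mul_inv (Mero.regGerm ⟨y, hya⟩ sa) hD.1 hu'.1).trans wa'.symm
  choose V hxV hV using hloc
  obtain ⟨s, hs⟩ := CompactSpace.elim_nhds_subcover (fun x ↦ (V x : Set C))
    (fun x ↦ (V x).2.mem_nhds (hxV x))
  refine (s.finite_toSet.biUnion fun x _ ↦ hV x).subset fun y hy ↦ ?_
  obtain ⟨x, hx, hyx⟩ := Set.mem_iUnion₂.mp (hs.ge (Set.mem_univ y))
  exact Set.mem_biUnion hx ⟨hyx, hy⟩

lemma mem_of_finite_support {g : ∀ x : C, Mero.Germ C x} (hfin : {x : C | g x ≠ 1}.Finite)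
    (hcl : ∀ x : C, ¬ IsClosed ({x} : Set C) → g x = 1) : g ∈ Mero.divisorGroup C := by
  classical
  intro x
  have hSc : IsClosed ({y : C | g y ≠ 1} \ {x}) := by
    rw [← Set.biUnion_of_singleton ({y : C | g y ≠ 1} \ {x})]
    exact hfin.sdiff.isClosed_biUnion fun y hy ↦ by_contra fun h ↦ hy.1 (hcl y h)
  let O : C.Opens := ⟨({y : C | g y ≠ 1} \ {x})ᶜ, hSc.isOpen_compl⟩
  have hxO : x ∈ O := fun h ↦ h.2 rfl
  have hO : ∀ y ∈ O, y ≠ x → g y = 1 := fun y hy hne ↦ by_contra fun h ↦ hy ⟨h, hne⟩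
  obtain ⟨k, hk⟩ := QuotientGroup.mk_surjective (g x)
  obtain ⟨a, b, hab⟩ := decompose x k
  obtain ⟨Va, hxa, a', ha', rfl⟩ := exists_section a
  obtain ⟨Vb, hxb, b', hb', rfl⟩ := exists_section b
  have hFc : IsClosed (((Va : Set C) \ C.basicOpen a' ∪ (Vb : Set C) \ C.basicOpen b') \ {x}) := by
    rw [← Set.biUnion_of_singleton (((Va : Set C) \ C.basicOpen a' ∪ (Vb : Set C) \ C.basicOpen b') \ {x})]
    refine ((nonunit_finite hC ha').union (nonunit_finite hC hb')).sdiff.isClosed_biUnion ?_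
    rintro y ⟨hy | hy, -⟩
    · exact nonunit_isClosed_point hC ha' hy.1 hy.2
    · exact nonunit_isClosed_point hC hb' hy.1 hy.2
  let W : C.Opens := O ⊓ Va ⊓ Vb ⊓ ⟨_, hFc.isOpen_compl⟩
  have hWa : W ≤ Va := fun y hy ↦ hy.1.1.2
  have hWb : W ≤ Vb := fun y hy ↦ hy.1.2
  let A : Mero.regSub C W := ⟨_, Mero.regSub_res (homOfLE hWa) ha'⟩
  let B : Mero.regSub C W := ⟨_, Mero.regSub_res (homOfLE hWb) hb'⟩
  let mkF : Mero.regSub C W → Mero.regSub C W → Γ(Mero.kmod C, W) := fun P Q ↦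
    ⟨fun y ↦ LocalizedModule.mk (C.presheaf.germ W y.1 y.2 P.1) (Mero.regGerm y Q),
      fun y ↦ ⟨W, y.2, 𝟙 _, P.1, Q, fun _ ↦ rfl⟩⟩
  let f : (Γ(Mero.kmod C, W))ˣ := Units.mkOfMulEqOne (mkF A B) (mkF B A)
    (Subtype.ext (funext fun y ↦ LocalizedModule.mk_mul_mk.trans ((Mero.mk_congr (mul_comm _ _)
      rfl).trans (Mero.mk_self_eq_one (Mero.regGerm y B * Mero.regGerm y A)))))
  refine ⟨W, ⟨⟨⟨hxO, hxa⟩, hxb⟩, fun h ↦ h.2 rfl⟩, f, ?_⟩
  intro y
  have hval : Mero.germOf f y = cls y.1 (Mero.regGerm y A) * (cls y.1 (Mero.regGerm y B))⁻¹ := by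
    refine eq_mul_inv_of_mul_eq ?_
    rw [Mero.germOf, cls, cls, ← QuotientGroup.mk_mul]
    refine congrArg _ (Units.ext ?_)
    change Localization.mk _ _ * algebraMap _ _ _ = algebraMap _ _ _
    rw [Localization.mk_eq_mk', IsLocalization.mk'_spec]
  rw [hval]
  have hgA : ∀ (hy' : y.1 ∈ Va), Mero.regGerm y A = Mero.regGerm ⟨y.1, hy'⟩ ⟨a', ha'⟩ := fun hy' ↦
    Subtype.ext (C.presheaf.germ_res_apply _ _ _ a')
  have hgB : ∀ (hy' : y.1 ∈ Vb), Mero.regGerm y B = Mero.regGerm ⟨y.1, hy'⟩ ⟨b', hb'⟩ := fun hy' ↦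
    Subtype.ext (C.presheaf.germ_res_apply _ _ _ b')
  rw [hgA (hWa y.2), hgB (hWb y.2)]
  obtain ⟨y, hy⟩ := y
  by_cases hne : y = x
  · subst hne
    rw [← hk]; exact hab
  · rw [hO y hy.1.1.1 hne, cls_eq_one, cls_eq_one, inv_one]
    · exact (mul_one (1 : Mero.Germ C y)).symm
    · exact (C.mem_basicOpen b' y (hWb hy)).mp
        (by_contra fun h ↦ hy.2 ⟨Or.inr ⟨hWb hy, h⟩, hne⟩)
    · exact (C.mem_basicOpen a' y (hWa hy)).mp
        (by_contra fun h ↦ hy.2 ⟨Or.inl ⟨hWa hy, h⟩, hne⟩)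

end Groth.Agent.H29Mero
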